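import Cfsg.Agent.S0717
import Cfsg.Agent.H770.CY.Defs
import Cfsg.Agent.H31.BR.PolInst
import Cfsg.Agent.H145.BR.Count
import Cfsg.Agent.PermutationGroups.MultFree

/-!
# S4829 : multiplicity free permutation characters from self-paired orbitals (helper246)

* `mf_of_swap` : any two points are interchanged => every irreducible character occurs at most once;
* `mf_sub_one` : the same for `π - 1`, with the trivial character removed;
* `typ_symm` : the type of a pair of subspaces of the same dimension is symmetric (bilinear forms);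
* `PolInst.swap`, `PolInst.mf` : the totally singular `k`-spaces.
-/

set_option autoImplicit false

open Module Cfsg
open Cfsg.Agent.H2.Pol Cfsg.Agent.H674.BR Cfsg.Agent.H646.BR Cfsg.Agent.H145.BR Cfsg.Agent.H623.BR Cfsg.Agent.H770.CY
open Cfsg.Agent.H31.BR Cfsg.Agent.Characters

namespace Cfsg.Agent.H246.CY

universe u v

section abstract

variable {S : Type u} [Group S] [Fintype S]

theorem mul_eq_classInner (ψ θ : S → ℂ) : mul ψ θ = classInner ψ θ := rfl

theorem mul_sub (ψ ψ' θ : S → ℂ) : mul (fun g => ψ g - ψ' g) θ = mul ψ θ - mul ψ' θ := by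
  unfold Cfsg.Agent.H770.CY.mul
  rw [← _root_.mul_sub, ← Finset.sum_sub_distrib]
  congr 1
  exact Finset.sum_congr rfl fun g _ => by ring

variable {X : Type v} [MulAction S X] [Finite X] [MulAction.IsPretransitive S X]

/-- **any two points are interchanged** : the permutation character is multiplicity free -/
theorem mf_of_swap (hsp : ∀ a b : X, ∃ g : S, g • a = b ∧ g • b = a) (θ : IrrCharacter S) :
    mul (permC S X) (θ : S → ℂ) = 0 ∨ mul (permC S X) (θ : S → ℂ) = 1 := by
  have := Fintype.ofFinite X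
  by_cases h : classInner (permC S X) (θ : S → ℂ) = 0
  · exact Or.inl ((mul_eq_classInner _ _).trans h)
  · exact Or.inr ((mul_eq_classInner _ _).trans (Cfsg.Agent.S0717.result.1 hsp (θ : S → ℂ) θ.2 h).1)

/-- the same for `π - 1` -/
theorem mf_sub_one [Nonempty X] (hsp : ∀ a b : X, ∃ g : S, g • a = b ∧ g • b = a) (θ : IrrCharacter S) :
    mul (fun g => permC S X g - 1) (θ : S → ℂ) = 0 ∨
      (mul (fun g => permC S X g - 1) (θ : S → ℂ) = 1 ∧ (θ : S → ℂ) ≠ (fun _ => 1)) := by
  have h1 : mul (fun g => permC S X g - 1) (θ : S → ℂ) = mul (permC S X) (θ : S → ℂ) - mul (fun _ => 1) (θ : S → ℂ) :=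
    mul_sub (permC S X) (fun _ => 1) (θ : S → ℂ)
  have hirr : IsIrrCharacter S (fun _ => 1) := Cfsg.Agent.PermutationGroups.MultFree.isIrr_one
  by_cases h : (θ : S → ℂ) = (fun _ => 1)
  · left
    have h2 : mul (permC S X) (θ : S → ℂ) = 1 := by
      rw [mul_eq_classInner, h, classInner_permC_one]
      have : Subsingleton (MulAction.orbitRel.Quotient S X) := by
        refine ⟨fun a b => ?_⟩
        induction a using Quotient.inductionOn'
        induction b using Quotient.inductionOn'
        exact Quotient.sound' (MulAction.orbitRel_apply.2 (MulAction.exists_smul_eq S _ _))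
      have : Nonempty (MulAction.orbitRel.Quotient S X) := Nonempty.map (Quotient.mk'') ‹Nonempty X›
      rw [Nat.card_eq_one_iff_unique.2 ⟨inferInstance, inferInstance⟩, Nat.cast_one]
    have h3 : mul (fun _ => 1) (θ : S → ℂ) = 1 := by
      rw [mul_eq_classInner, h]
      exact Core.classInner_irr_self hirr
    rw [h1, h2, h3, sub_self]
  · have h3 : mul (fun _ => 1) (θ : S → ℂ) = 0 := Core.classInner_irr_ne hirr θ.2 fun h' => h h'.symm
    rcases mf_of_swap hsp θ with h2 | h2
    · left
      rw [h1, h2, h3, sub_zero]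
    · right
      exact ⟨by rw [h1, h2, h3, sub_zero], h⟩

end abstract

section typ

variable {F V : Type*} [Field F] [AddCommGroup V] [Module F V] [FiniteDimensional F V] {Φ : Pol F V}

theorem typ_symm (La : ∀ x y y' : V, Φ.L (y + y') x = Φ.L y x + Φ.L y' x)
    (Ls : ∀ (a : F) (x y : V), Φ.L (a • y) x = a * Φ.L y x) (U W : Submodule F V)
    (h : finrank F U = finrank F W) : typ Φ U W = typ Φ W U := by
  let B : U →ₗ[F] (W →ₗ[F] F) :=
    { toFun := fun x =>
        { toFun := fun y => Φ.L y.1 x.1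
          map_add' := fun y y' => La _ _ _
          map_smul' := fun a y => Ls _ _ _ }
      map_add' := fun x x' => LinearMap.ext fun y => map_add (Φ.L y.1) x.1 x'.1
      map_smul' := fun a x => LinearMap.ext fun y => map_smul (Φ.L y.1) a x.1 }
  have h1 : (LinearMap.ker B).map U.subtype = U ⊓ Φ.perp W := by
    ext x
    constructor
    · rintro ⟨y, hy, rfl⟩
      exact ⟨y.2, fun w hw => congrArg (fun f : W →ₗ[F] F => f ⟨w, hw⟩) (LinearMap.mem_ker.1 hy)⟩
    · rintro ⟨hx, hx'⟩
      exact ⟨⟨x, hx⟩, LinearMap.mem_ker.2 (LinearMap.ext fun w => hx' w.1 w.2), rfl⟩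
  have h2 : (LinearMap.ker B.flip).map W.subtype = W ⊓ Φ.perp U := by
    ext y
    constructor
    · rintro ⟨w, hw, rfl⟩
      exact ⟨w.2, fun x hx => Φ.refl _ _ (congrArg (fun f : U →ₗ[F] F => f ⟨x, hx⟩) (LinearMap.mem_ker.1 hw))⟩
    · rintro ⟨hy, hy'⟩
      exact ⟨⟨y, hy⟩, LinearMap.mem_ker.2 (LinearMap.ext fun x => Φ.refl _ _ (hy' x.1 x.2)), rfl⟩
  have h3 : finrank F ↥(U ⊓ Φ.perp W) = finrank F (LinearMap.ker B) := by
    rw [← h1]
    exact LinearEquiv.finrank_eq ((LinearMap.ker B).equivMapOfInjective U.subtype U.injective_subtype).symm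
  have h4 : finrank F ↥(W ⊓ Φ.perp U) = finrank F (LinearMap.ker B.flip) := by
    rw [← h2]
    exact LinearEquiv.finrank_eq ((LinearMap.ker B.flip).equivMapOfInjective W.subtype W.injective_subtype).symm
  have h5 := LinearMap.finrank_range_add_finrank_ker B
  have h6 := LinearMap.finrank_range_add_finrank_ker B.flip
  have h7 : finrank F (LinearMap.range B.flip) = finrank F (LinearMap.range B) := by
    have h8 : B.flip = B.dualMap ∘ₗ (Module.evalEquiv F W).toLinearMap := rfl
    rw [h8, LinearMap.range_comp, LinearEquiv.range, Submodule.map_top, LinearMap.finrank_range_dualMap_eq_finrank_range]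
  unfold typ
  rw [inf_comm U W, h3, h4]
  congr 1
  omega

end typ

section pol

variable {p : ℕ} {F V : Type*} {G H : Type*} {S : Type u} [Field F] [Fintype F] [AddCommGroup V]
  [Module F V] [FiniteDimensional F V] [Group G] [Group H] [Group S] {Φ : Pol F V} {ρ : G →* (V ≃ₗ[F] V)} {ι : H →* G}
  {ρ' : H →* (V ≃ₗ[F] V)} {π : H →* S} {w ε K : ℕ}

/-- any two totally singular `k`-spaces are interchanged by `S` -/
theorem polInst_swap (I : PolInst p Φ ρ ι ρ' π w ε K) {k : ℕ} (h1 : 1 ≤ k) (hk : k ≤ K) :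
    letI := I.model.mulAction k; ∀ U W : Φ.X k, ∃ g : S, g • U = W ∧ g • W = U := by
  intro U W
  obtain ⟨g, hg1, hg2⟩ := I.pair k h1 hk U W W U (typ_symm I.La I.Ls U.1 W.1 (U.2.2.trans W.2.2.symm))
  exact ⟨π g, (I.model.smul_eq k g U).trans (Subtype.ext hg1), (I.model.smul_eq k g W).trans (Subtype.ext hg2)⟩

/-- the permutation character on the totally singular `k`-spaces is multiplicity free -/
theorem polInst_mf [Fintype S] (I : PolInst p Φ ρ ι ρ' π w ε K) {k : ℕ} (h1 : 1 ≤ k) (hk : k ≤ K)
    (θ : IrrCharacter S) :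
    letI := I.model.mulAction k; mul (permC S (Φ.X k)) (θ : S → ℂ) = 0 ∨ mul (permC S (Φ.X k)) (θ : S → ℂ) = 1 := by
  let _ := I.model.mulAction k
  have := I.pretransitive h1 hk
  exact mf_of_swap (polInst_swap I h1 hk) θ

end pol

end Cfsg.Agent.H246.CY
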